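import Mathlib.CategoryTheory.Functor.KanExtension.Adjunction
import Mathlib.CategoryTheory.Limits.Indization.IndObject
import Mathlib.CategoryTheory.Limits.Types.Filtered
import Mathlib.CategoryTheory.Limits.Types.Colimits
import Mathlib.CategoryTheory.Limits.FunctorCategory.Basic

/-!
Faithfulness and fullness of left Kan extension on ind-objects, read off from representables.
-/

set_option autoImplicit false
universe u

open CategoryTheory CategoryTheory.Limits Opposite

namespace Groth.Agent.LanInd

variable {C : Type u} [SmallCategory C] {C' : Type u} [SmallCategory C'] (u : C ⥤ C')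

/-- the left Kan extension functor on presheaves -/
noncomputable abbrev L : (Cᵒᵖ ⥤ Type u) ⥤ (C'ᵒᵖ ⥤ Type u) := u.op.lan

/-- the unit at a presheaf, evaluated at an object -/
noncomputable abbrev η (G : Cᵒᵖ ⥤ Type u) (c : C) : G.obj (op c) → ((L u).obj G).obj (op (u.obj c)) :=
  (u.op.lanUnit.app G).app (op c)

theorem η_naturality {F G : Cᵒᵖ ⥤ Type u} (φ : F ⟶ G) (c : C) (x : F.obj (op c)) :
    η u G c (φ.app (op c) x) = ((L u).map φ).app (op (u.obj c)) (η u F c x) :=
  ConcreteCategory.congr_hom (congr_app (u.op.lanUnit.naturality φ) (op c)) x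

theorem η_map {G : Cᵒᵖ ⥤ Type u} {c d : C} (f : c ⟶ d) (x : G.obj (op d)) :
    η u G c (G.map f.op x) = ((L u).obj G).map (u.map f).op (η u G d x) :=
  ConcreteCategory.congr_hom ((u.op.lanUnit.app G).naturality f.op) x

theorem map_eq_iff {F G : Cᵒᵖ ⥤ Type u} (φ ψ : F ⟶ G) :
    (L u).map φ = (L u).map ψ ↔ ∀ c x, η u G c (φ.app (op c) x) = η u G c (ψ.app (op c) x) := by
  refine ⟨fun h c x => by rw [η_naturality, η_naturality, h], fun h => ?_⟩
  refine Functor.hom_ext_of_isLeftKanExtension _ (u.op.lanUnit.app F) _ _ ?_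
  refine NatTrans.ext (funext fun ⟨c⟩ => ConcreteCategory.hom_ext _ _ fun x => ?_)
  show ((L u).map φ).app (op (u.obj c)) (η u F c x) = ((L u).map ψ).app (op (u.obj c)) (η u F c x)
  rw [← η_naturality, ← η_naturality, h]

/-- the comparison map from the extension of a representable to the representable -/
noncomputable def retr (d : C) : (L u).obj (yoneda.obj d) ⟶ yoneda.obj (u.obj d) :=
  ((L u).obj (yoneda.obj d)).descOfIsLeftKanExtension (u.op.lanUnit.app (yoneda.obj d)) (yoneda.obj (u.obj d))
    { app := fun c => ↾fun f => u.map f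
      naturality := fun c c' g => ConcreteCategory.hom_ext _ _ fun f => u.map_comp g.unop f }

theorem retr_η {c d : C} (f : c ⟶ d) :
    (retr u d).app (op (u.obj c)) (η u (yoneda.obj d) c f) = u.map f :=
  ConcreteCategory.congr_hom (Functor.descOfIsLeftKanExtension_fac_app _
    (u.op.lanUnit.app (yoneda.obj d)) _ _ (op c)) f

theorem η_yoneda {c d : C} (f : c ⟶ d) :
    η u (yoneda.obj d) c f = ((L u).obj (yoneda.obj d)).map (u.map f).op (η u (yoneda.obj d) d (𝟙 d)) := by
  rw [← η_map]
  exact congrArg (η u (yoneda.obj d) c) (Category.comp_id f).symm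

theorem faithful_of_injective
    (h : ∀ c d : C, Function.Injective fun φ : yoneda.obj c ⟶ yoneda.obj d => (L u).map φ) :
    u.Faithful where
  map_injective {c d} f g hfg := by
    refine yoneda.map_injective (h c d ((map_eq_iff u _ _).2 fun e x => ?_))
    show η u (yoneda.obj d) e (x ≫ f) = η u (yoneda.obj d) e (x ≫ g)
    rw [η_yoneda u (x ≫ f), η_yoneda u (x ≫ g), u.map_comp, u.map_comp, hfg]

theorem full_of_surjective
    (h : ∀ c d : C, Function.Surjective fun φ : yoneda.obj c ⟶ yoneda.obj d => (L u).map φ) :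
    u.Full where
  map_surjective {c d} g := by
    let α : yoneda.obj c ⟶ u.op ⋙ (L u).obj (yoneda.obj d) :=
      yonedaEquiv.symm (((L u).obj (yoneda.obj d)).map g.op (η u (yoneda.obj d) d (𝟙 d)))
    obtain ⟨φ, hφ⟩ := h c d (((L u).obj (yoneda.obj c)).descOfIsLeftKanExtension
      (u.op.lanUnit.app (yoneda.obj c)) _ α)
    refine ⟨φ.app (op c) (𝟙 c), ?_⟩
    rw [← retr_η u, η_naturality]
    show (retr u d).app _ (((L u).map φ).app _ _) = g
    rw [show (L u).map φ = _ from hφ]
    have h1 := ConcreteCategory.congr_hom (Functor.descOfIsLeftKanExtension_fac_app _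
      (u.op.lanUnit.app (yoneda.obj c)) _ α (op c)) (𝟙 c)
    refine (congrArg ((retr u d).app (op (u.obj c))) h1).trans ?_
    have h2 : α.app (op c) (𝟙 c) = ((L u).obj (yoneda.obj d)).map g.op (η u (yoneda.obj d) d (𝟙 d)) := by
      show (u.op ⋙ (L u).obj (yoneda.obj d)).map (𝟙 c).op _ = _
      simp
    rw [h2]
    have h3 := ConcreteCategory.congr_hom ((retr u d).naturality g.op) (η u (yoneda.obj d) d (𝟙 d))
    refine h3.trans ?_
    show g ≫ (retr u d).app (op (u.obj d)) (η u (yoneda.obj d) d (𝟙 d)) = g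
    rw [retr_η, u.map_id, Category.comp_id]

theorem η_injective [u.Faithful] {G : Cᵒᵖ ⥤ Type u} (hG : IsIndObject G) (c : C) :
    Function.Injective (η u G c) := by
  obtain ⟨P⟩ := hG.nonempty_presentation
  intro x y hxy
  have hc : IsColimit (((evaluation Cᵒᵖ (Type u)).obj (op c)).mapCocone P.cocone) :=
    isColimitOfPreserves _ P.coconeIsColimit
  obtain ⟨i, a, ha⟩ := Types.jointly_surjective_of_isColimit hc x
  obtain ⟨j, b, hb⟩ := Types.jointly_surjective_of_isColimit hc y
  have hL : IsColimit (((evaluation C'ᵒᵖ (Type u)).obj (op (u.obj c))).mapCocone ((L u).mapCocone P.cocone)) := by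
    haveI : PreservesColimitsOfShape P.I (L u) :=
      (u.op.lanAdjunction (Type u)).leftAdjoint_preservesColimits.preservesColimitsOfShape
    exact isColimitOfPreserves _ (isColimitOfPreserves _ P.coconeIsColimit)
  have e : (((evaluation C'ᵒᵖ (Type u)).obj (op (u.obj c))).mapCocone ((L u).mapCocone P.cocone)).ι.app i
      (η u (yoneda.obj (P.F.obj i)) c a) =
    (((evaluation C'ᵒᵖ (Type u)).obj (op (u.obj c))).mapCocone ((L u).mapCocone P.cocone)).ι.app j
      (η u (yoneda.obj (P.F.obj j)) c b) := by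
    refine ((η_naturality u (P.ι.app i) c a).symm.trans ?_).trans (η_naturality u (P.ι.app j) c b)
    exact (congrArg (η u G c) ha).trans (hxy.trans (congrArg (η u G c) hb).symm)
  obtain ⟨k, f, g, hk⟩ := (Types.FilteredColimit.isColimit_eq_iff _ hL).1 e
  have hk' : η u (yoneda.obj (P.F.obj k)) c (a ≫ P.F.map f) =
      η u (yoneda.obj (P.F.obj k)) c (b ≫ P.F.map g) :=
    (η_naturality u (yoneda.map (P.F.map f)) c a).trans
      (hk.trans (η_naturality u (yoneda.map (P.F.map g)) c b).symm)
  have hab : a ≫ P.F.map f = b ≫ P.F.map g := u.map_injective (by rw [← retr_η u, hk', retr_η u])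
  have wa := ConcreteCategory.congr_hom ((((evaluation Cᵒᵖ (Type u)).obj (op c)).mapCocone P.cocone).w f) a
  have wb := ConcreteCategory.congr_hom ((((evaluation Cᵒᵖ (Type u)).obj (op c)).mapCocone P.cocone).w g) b
  refine ha.symm.trans (wa.symm.trans (Eq.trans ?_ (wb.trans hb)))
  exact congrArg ((((evaluation Cᵒᵖ (Type u)).obj (op c)).mapCocone P.cocone).ι.app k) hab

theorem map_injective [u.Faithful] {F G : Cᵒᵖ ⥤ Type u} (hG : IsIndObject G) :
    Function.Injective fun φ : F ⟶ G => (L u).map φ := fun φ ψ h =>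
  NatTrans.ext (funext fun ⟨c⟩ => ConcreteCategory.hom_ext _ _ fun x =>
    η_injective u hG c ((map_eq_iff u φ ψ).1 h c x))

theorem map_bijective [u.Full] [u.Faithful] (F G : Cᵒᵖ ⥤ Type u) :
    Function.Bijective fun φ : F ⟶ G => (L u).map φ :=
  (u.op.lanAdjunction (Type u)).fullyFaithfulLOfIsIsoUnit.map_bijective F G

end Groth.Agent.LanInd
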