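import Groth.Agent.LanInd.Basic
import Mathlib.CategoryTheory.Filtered.Final
import Mathlib.CategoryTheory.Limits.FinallySmall

/-!
Left Kan extension along a fully faithful functor with dense retracts is an equivalence on ind-objects.
-/

set_option autoImplicit false
universe u

open CategoryTheory CategoryTheory.Limits Opposite

namespace Groth.Agent.LanInd

variable {C : Type u} [SmallCategory C] {C' : Type u} [SmallCategory C'] (u : C ⥤ C')

/-- the element underlying an object over `u.op ⋙ G'` -/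
noncomputable def el {G' : C'ᵒᵖ ⥤ Type u} (a : CostructuredArrow yoneda (u.op ⋙ G')) :
    G'.obj (op (u.obj a.left)) :=
  yonedaEquiv (F := u.op ⋙ G') a.hom

/-- pullback of an element of `u.op ⋙ G'` to an element of `G'` -/
noncomputable def elts (G' : C'ᵒᵖ ⥤ Type u) :
    CostructuredArrow yoneda (u.op ⋙ G') ⥤ CostructuredArrow yoneda G' where
  obj a := CostructuredArrow.mk (S := yoneda) (Y := u.obj a.left) (yonedaEquiv.symm (el u a))
  map {a b} f := CostructuredArrow.homMk (u.map f.left) (by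
    apply yonedaEquiv.injective
    dsimp
    rw [← yonedaEquiv_naturality, Equiv.apply_symm_apply, Equiv.apply_symm_apply]
    show (u.op ⋙ G').map f.left.op (yonedaEquiv (F := u.op ⋙ G') b.hom) = yonedaEquiv (F := u.op ⋙ G') a.hom
    rw [yonedaEquiv_naturality, CostructuredArrow.w])
  map_id a := CostructuredArrow.hom_ext _ _ (u.map_id _)
  map_comp f g := CostructuredArrow.hom_ext _ _ (u.map_comp _ _)

instance [u.Faithful] (G' : C'ᵒᵖ ⥤ Type u) : (elts u G').Faithful :=
  ⟨fun {_ _} _ _ h => CostructuredArrow.hom_ext _ _ (u.map_injective (congrArg CommaMorphism.left h))⟩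

instance [u.Full] (G' : C'ᵒᵖ ⥤ Type u) : (elts u G').Full where
  map_surjective {a b} g := by
    obtain ⟨f, hf⟩ := u.map_surjective g.left
    refine ⟨CostructuredArrow.homMk f ?_, CostructuredArrow.hom_ext _ _ hf⟩
    apply yonedaEquiv.injective
    rw [← yonedaEquiv_naturality]
    show G'.map (u.map f).op (el u b) = el u a
    have h : yonedaEquiv (yoneda.map g.left ≫ (yonedaEquiv.symm (el u b) : yoneda.obj _ ⟶ G')) =
        yonedaEquiv (yonedaEquiv.symm (el u a) : yoneda.obj _ ⟶ G') :=
      congrArg yonedaEquiv (CostructuredArrow.w g)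
    rw [← yonedaEquiv_naturality] at h
    exact (congrArg (fun k => G'.map (Quiver.Hom.op k) (el u b)) hf).trans
      (((congrArg (G'.map g.left.op) (Equiv.apply_symm_apply yonedaEquiv (el u b))).symm.trans h).trans
        (Equiv.apply_symm_apply yonedaEquiv (el u a)))

theorem isIndObject_comp [u.Full] [u.Faithful]
    (hret : ∀ X' : C', ∃ (X : C) (i : X' ⟶ u.obj X) (r : u.obj X ⟶ X'), i ≫ r = 𝟙 X')
    {G' : C'ᵒᵖ ⥤ Type u} (hG : IsIndObject G') : IsIndObject (u.op ⋙ G') := by
  haveI := hG.isFiltered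
  haveI : IsFiltered (CostructuredArrow yoneda (u.op ⋙ G')) := by
    refine IsFiltered.of_exists_of_isFiltered_of_fullyFaithful (elts u G') fun b => ?_
    obtain ⟨X, i, r, hir⟩ := hret b.left
    refine ⟨CostructuredArrow.mk (S := yoneda) (Y := X)
      ((yonedaEquiv (F := u.op ⋙ G')).symm (G'.map r.op (yonedaEquiv b.hom))), ⟨CostructuredArrow.homMk i ?_⟩⟩
    apply yonedaEquiv.injective
    rw [← yonedaEquiv_naturality]
    dsimp [elts, el]
    rw [Equiv.apply_symm_apply]
    refine (congrArg (G'.map i.op)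
      (Equiv.apply_symm_apply (yonedaEquiv (F := G') (X := u.obj X)) (G'.map r.op (yonedaEquiv b.hom)))).trans ?_
    rw [← Functor.map_comp_apply, ← op_comp, hir, op_id, Functor.map_id_apply]
  haveI : FinallySmall.{u} (CostructuredArrow yoneda (u.op ⋙ G')) := FinallySmall.mk' (𝟭 _)
  exact isIndObject_of_isFiltered_of_finallySmall _

/-- the extension of the restriction of a presheaf is the presheaf -/
theorem isIso_counit [u.Full] [u.Faithful]
    (hret : ∀ X' : C', ∃ (X : C) (i : X' ⟶ u.obj X) (r : u.obj X ⟶ X'), i ≫ r = 𝟙 X')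
    (G' : C'ᵒᵖ ⥤ Type u) : IsIso ((u.op.lanAdjunction (Type u)).counit.app G') := by
  let ε : (L u).obj (u.op ⋙ G') ⟶ G' := (u.op.lanAdjunction (Type u)).counit.app G'
  have h0 : ∀ X : C, IsIso (ε.app (op (u.obj X))) := fun X => by
    haveI : IsIso ((u.op.lanUnit.app (u.op ⋙ G')).app (op X) ≫ ε.app (op (u.obj X))) := by
      rw [show (u.op.lanUnit.app (u.op ⋙ G')).app (op X) ≫ ε.app (op (u.obj X)) = 𝟙 _ from
        u.op.lanUnit_app_app_lanAdjunction_counit_app_app G' (op X)]
      infer_instance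
    exact IsIso.of_isIso_comp_left ((u.op.lanUnit.app (u.op ⋙ G')).app (op X)) _
  haveI : ∀ X' : C'ᵒᵖ, IsIso (ε.app X') := by
    rintro ⟨X'⟩
    obtain ⟨X, i, r, hir⟩ := hret X'
    have := h0 X
    refine ⟨⟨G'.map r.op ≫ inv (ε.app (op (u.obj X))) ≫ CategoryTheory.Functor.map ((L u).obj (u.op ⋙ G')) i.op, ?_, ?_⟩⟩
    · rw [← ε.naturality_assoc, IsIso.hom_inv_id_assoc, ← Functor.map_comp, ← op_comp, hir, op_id,
        CategoryTheory.Functor.map_id]
    · rw [Category.assoc, Category.assoc, ε.naturality, IsIso.inv_hom_id_assoc]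
      show G'.map r.op ≫ G'.map i.op = _
      rw [← Functor.map_comp, ← op_comp, hir, op_id, CategoryTheory.Functor.map_id]
  exact NatIso.isIso_of_isIso_app ε

/-- every object is a retract of an image when every ind-object comes from downstairs -/
theorem exists_retract
    (hsurj : ∀ G' : C'ᵒᵖ ⥤ Type u, IsIndObject G' →
      ∃ F : Cᵒᵖ ⥤ Type u, IsIndObject F ∧ Nonempty ((L u).obj F ≅ G'))
    (X' : C') : ∃ (X : C) (i : X' ⟶ u.obj X) (r : u.obj X ⟶ X'), i ≫ r = 𝟙 X' := by
  obtain ⟨F, hF, ⟨e⟩⟩ := hsurj _ (isIndObject_yoneda X')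
  obtain ⟨P⟩ := hF.nonempty_presentation
  have hL : IsColimit (((evaluation C'ᵒᵖ (Type u)).obj (op X')).mapCocone ((L u).mapCocone P.cocone)) := by
    haveI : PreservesColimitsOfShape P.I (L u) :=
      (u.op.lanAdjunction (Type u)).leftAdjoint_preservesColimits.preservesColimitsOfShape
    exact isColimitOfPreserves _ (isColimitOfPreserves _ P.coconeIsColimit)
  obtain ⟨j, z, hz⟩ := Types.jointly_surjective_of_isColimit hL (e.inv.app (op X') (𝟙 X'))
  let X := P.F.obj j
  let s : yoneda.obj (u.obj X) ⟶ (L u).obj (yoneda.obj X) :=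
    yonedaEquiv.symm (η u (yoneda.obj X) X (𝟙 X))
  have hs : retr u X ≫ s = 𝟙 _ := by
    refine Functor.hom_ext_of_isLeftKanExtension _ (u.op.lanUnit.app (yoneda.obj X)) _ _ ?_
    refine NatTrans.ext (funext fun ⟨c⟩ => ConcreteCategory.hom_ext _ _ fun f => ?_)
    show s.app (op (u.obj c)) ((retr u X).app (op (u.obj c)) (η u (yoneda.obj X) c f)) = η u (yoneda.obj X) c f
    rw [retr_η]
    exact (η_yoneda u f).symm
  let φ : yoneda.obj (u.obj X) ⟶ yoneda.obj X' := s ≫ (L u).map (P.ι.app j) ≫ e.hom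
  refine ⟨X, (retr u X).app (op X') z, φ.app (op (u.obj X)) (𝟙 _), ?_⟩
  have h1 : φ.app (op X') ((retr u X).app (op X') z) = 𝟙 X' := by
    show e.hom.app (op X') (((L u).map (P.ι.app j)).app (op X') (s.app (op X') ((retr u X).app (op X') z))) = _
    have hsz : s.app (op X') ((retr u X).app (op X') z) = z :=
      ConcreteCategory.congr_hom (congr_app hs (op X')) z
    rw [hsz]
    exact (congrArg (e.hom.app (op X')) hz).trans
      (ConcreteCategory.congr_hom (e.inv_hom_id_app (op X')) (𝟙 X'))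
  refine Eq.trans ?_ h1
  have h2 := ConcreteCategory.congr_hom (φ.naturality ((retr u X).app (op X') z).op) (𝟙 (u.obj X))
  refine h2.symm.trans (congrArg (φ.app (op X')) ?_)
  exact Category.comp_id _

end Groth.Agent.LanInd
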